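import Groth.Agent.KoszScaleLib.Split
import Groth.Agent.KoszScaleLib.Swap
import Groth.Agent.KoszPowLib.Basic
import Groth.Agent.KoszTorLib.Basic
import Groth.Agent.DiagTorLib.AssocAlg
import Mathlib.LinearAlgebra.ExteriorPower.Basis

/-!
# Koszul homology with coefficients in the quotient by a Koszul regular sequence
-/

set_option autoImplicit false

universe u

noncomputable section

open CategoryTheory CategoryTheory.Limits HomologicalComplex
open CochainComplex (mappingCone)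
open CochainComplex.HomComplex
open Groth.Agent

attribute [local instance] HasDerivedCategory.standard

namespace KoszExtPowLib

variable {A : Type u} [CommRing A]

theorem homology_cons_iso_of_homotopy (l : List A) (M : ModuleCat.{u} A) {y : A}
    (H : Homotopy (y • 𝟙 (Groth.Agent.KoszChiLib.T l M)) 0) (i : ℤ) :
    Nonempty (Groth.Agent.KoszChiLib.H (y :: l) M i ≃ₗ[A] Groth.Agent.KoszChiLib.H l M i × Groth.Agent.KoszChiLib.H l M (i + 1)) := by
  set C := Groth.Agent.KoszChiLib.T l M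
  set φ := y • 𝟙 C with hφ
  let e := ((HomologicalComplex.homologyFunctor (ModuleCat.{u} A) (ComplexShape.up ℤ) i).mapIso
    (Groth.Agent.KoszChiLib.coneIso y l M)).toLinearEquiv
  have hz : ∀ n, HomologicalComplex.homologyMap φ n = 0 := fun n => by
    rw [H.homologyMap_eq, HomologicalComplex.homologyMap_zero]
  let r : mappingCone φ ⟶ C := mappingCone.desc φ (Cochain.ofHomotopy H) (𝟙 C)
    (by rw [δ_ofHomotopy, Category.comp_id, Cochain.ofHom_zero, sub_zero])
  obtain ⟨g, h, h1, h2, h3⟩ : ∃ (g : C.homology i →ₗ[A] (mappingCone φ).homology i)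
      (h : (mappingCone φ).homology i →ₗ[A] C.homology (i + 1)),
      g = (HomologicalComplex.homologyMap (mappingCone.inr φ) i).hom ∧ Function.Exact g h ∧
        Function.Exact h (HomologicalComplex.homologyMap φ (i + 1)).hom := by
    let e' := LocCohLib.shiftHomologyIso C (1 : ℤ) i (i + 1) (by ring)
    obtain ⟨g', h', k1, k2, k3⟩ := Groth.Agent.KoszChiLib.cone_exact φ i
    exact ⟨_, (HomologicalComplex.homologyMap (LocCohLib.coneδ φ) i ≫ e'.hom).hom, rfl,
      ((CategoryTheory.ShortComplex.ShortExact.moduleCat_exact_iff_function_exact _).1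
        (LocCohLib.exact_δ φ i)).comp_injective (⇑e'.toLinearEquiv) e'.toLinearEquiv.injective
          (map_zero e'.toLinearEquiv), by
      intro w
      refine iff_of_true (by rw [hz]; rfl) ?_
      obtain ⟨z, rfl⟩ := e'.toLinearEquiv.surjective w
      let T₂ := (CochainComplex.mappingCone.triangle φ).rotate.rotate
      have h4 := (CategoryTheory.ShortComplex.ShortExact.moduleCat_exact_iff_function_exact _).1
        (LocCohLib.exact_of_dist T₂
          (LocCohLib.rotate_dist _ (LocCohLib.rotate_dist _ (LocCohLib.cone_dist φ))) i)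
      obtain ⟨v, hv⟩ := (h4 z).1 (by
        show (HomologicalComplex.homologyMap T₂.mor₂ i).hom z = 0
        rw [show T₂.mor₂ = -((shiftFunctor (CochainComplex (ModuleCat.{u} A) ℤ) (1 : ℤ)).map φ) from rfl]
        erw [HomologicalComplex.homologyMap_neg]
        show -(_ : _) = (0 : _)
        rw [neg_eq_zero]
        apply e'.toLinearEquiv.injective
        refine Eq.trans ?_ (map_zero e'.toLinearEquiv).symm
        have hn := ConcreteCategory.congr_hom (LocCohLib.shiftHomologyIso_naturality φ (1 : ℤ) i (i + 1) (by ring)) z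
        simp only [ModuleCat.comp_apply] at hn
        rw [hz] at hn
        exact hn)
      exact ⟨v, congrArg e'.hom hv⟩⟩
  let r' : (mappingCone φ).homology i →ₗ[A] C.homology i := (HomologicalComplex.homologyMap r i).hom
  have hr : ∀ x, r' (g x) = x := fun x => by
    have := ConcreteCategory.congr_hom (show HomologicalComplex.homologyMap (mappingCone.inr φ) i ≫
      HomologicalComplex.homologyMap r i = 𝟙 _ by
        rw [← HomologicalComplex.homologyMap_comp, mappingCone.inr_desc, HomologicalComplex.homologyMap_id]) x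
    rw [h1]
    exact this
  refine ⟨e.trans (LinearEquiv.ofBijective (r'.prod h) ⟨?_, ?_⟩)⟩
  · rw [← LinearMap.ker_eq_bot, eq_bot_iff]
    intro x hx
    obtain ⟨hx1, hx2⟩ : r' x = 0 ∧ h x = 0 := Prod.mk.inj hx
    obtain ⟨w, rfl⟩ := (h2 x).1 hx2
    rw [hr] at hx1
    simp [hx1]
  · rintro ⟨a, b⟩
    obtain ⟨v, rfl⟩ : b ∈ Set.range h := (h3 b).1 (by rw [hz]; rfl)
    refine ⟨v + g (a - r' v), Prod.ext ?_ ?_⟩
    · show r' (v + g (a - r' v)) = a
      rw [map_add, hr]; abel
    · show h (v + g (a - r' v)) = h v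
      rw [map_add, h2.apply_apply_eq_zero, add_zero]

/-- The iterated cone of a sequence on a complex. -/
def cn (C : CochainComplex (ModuleCat.{u} A) ℤ) : List A → CochainComplex (ModuleCat.{u} A) ℤ
  | [] => C
  | y :: ys => mappingCone (y • 𝟙 (cn C ys))

theorem cn_koszul (xs : List A) : ∀ ys : List A, cn (Koszul.koszul A xs) ys = Koszul.koszul A (ys ++ xs)
  | [] => rfl
  | y :: ys => by
    show mappingCone (y • 𝟙 (cn (Koszul.koszul A xs) ys)) = mappingCone (y • 𝟙 (Koszul.koszul A (ys ++ xs)))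
    rw [cn_koszul xs ys]

theorem cn_single (M : ModuleCat.{u} A) : ∀ ys : List A,
    cn ((single (ModuleCat.{u} A) (ComplexShape.up ℤ) 0).obj M) ys = CohIII.koszulCx M ys
  | [] => rfl
  | y :: ys => by
    show mappingCone (y • 𝟙 (cn _ ys)) = mappingCone (y • 𝟙 (CohIII.koszulCx M ys))
    rw [cn_single M ys]

theorem quasiIso_map {K L K' L' : CochainComplex (ModuleCat.{u} A) ℤ} (φ : K ⟶ L) (φ' : K' ⟶ L')
    (a : K ⟶ K') (b : L ⟶ L') (comm : φ ≫ b = a ≫ φ') [QuasiIso a] [QuasiIso b] :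
    QuasiIso (CochainComplex.mappingCone.map φ φ' a b comm) := by
  rw [← DerivedCategory.isIso_Q_map_iff_quasiIso]
  have h₁ : IsIso (DerivedCategory.Q.map a) := (DerivedCategory.isIso_Q_map_iff_quasiIso _ _).2 inferInstance
  have h₂ : IsIso (DerivedCategory.Q.map b) := (DerivedCategory.isIso_Q_map_iff_quasiIso _ _).2 inferInstance
  exact Pretriangulated.isIso₃_of_isIso₁₂
    (DerivedCategory.Q.mapTriangle.map (CochainComplex.mappingCone.triangleMap φ φ' a b comm))
    (DerivedCategory.mappingCone_triangle_distinguished _) (DerivedCategory.mappingCone_triangle_distinguished _)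
    h₁ h₂

theorem exists_cn_map {C D : CochainComplex (ModuleCat.{u} A) ℤ} (π : C ⟶ D) [QuasiIso π] :
    ∀ ys : List A, ∃ p : cn C ys ⟶ cn D ys, QuasiIso p
  | [] => ⟨π, ‹QuasiIso π›⟩
  | y :: ys => by
    obtain ⟨p, hp⟩ := exists_cn_map π ys
    exact ⟨CochainComplex.mappingCone.map (y • 𝟙 (cn C ys)) (y • 𝟙 (cn D ys)) p p (by simp), quasiIso_map _ _ _ _ _⟩

/-- `H(K(ys ++ xs)) ≅ H(K(ys) ⊗ A/(xs))` for `xs` Koszul regular. -/
theorem nonempty_H_quot {xs : List A} (hxs : LCI.IsKoszulRegularSeq A xs) (ys : List A) (i : ℤ) :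
    Nonempty (KoszChiLib.H ys (ModuleCat.of A (A ⧸ KoszChiLib.Idl xs)) i ≅ (Koszul.koszul A (ys ++ xs)).homology i) := by
  obtain ⟨π, hπ⟩ := KoszTorLib.exists_quasiIso_single (Koszul.koszul A xs) (KoszTorLib.isZero_X_pos xs) hxs
  obtain ⟨p, hp⟩ := exists_cn_map π ys
  obtain ⟨e₀⟩ := KoszTorLib.nonempty_homology_zero xs
  obtain ⟨e₁⟩ := KoszPowLib.nonempty_T_iso (ModuleCat.of A (A ⧸ KoszChiLib.Idl xs)) ys
  obtain ⟨p', hp'⟩ := exists_cn_map ((single (ModuleCat.{u} A) (ComplexShape.up ℤ) 0).mapIso e₀).hom ys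
  let F := homologyFunctor (ModuleCat.{u} A) (ComplexShape.up ℤ) i
  haveI h1 : IsIso (F.map p) := (quasiIsoAt_iff_isIso_homologyMap _ _).mp (hp.quasiIsoAt i)
  haveI h2 : IsIso (F.map p') := (quasiIsoAt_iff_isIso_homologyMap _ _).mp (hp'.quasiIsoAt i)
  exact ⟨F.mapIso e₁ ≪≫ F.mapIso (eqToIso (cn_single _ ys).symm) ≪≫ (asIso (F.map p')).symm ≪≫
    (asIso (F.map p)).symm ≪≫ F.mapIso (eqToIso (cn_koszul xs ys))⟩

theorem nonempty_homotopy_kill (l : List A) (M : ModuleCat.{u} A) {y : A} (hy : ∀ m : M, y • m = 0) :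
    Nonempty (Homotopy (y • 𝟙 (KoszChiLib.T l M)) 0) := by
  have h : y • 𝟙 M = 0 := ModuleCat.hom_ext (LinearMap.ext fun m => hy m)
  refine ⟨Homotopy.ofEq ?_⟩
  rw [← KoszChiLib.Tmap_smul_id, h]
  ext i : 1
  exact MonoidalPreadditive.whiskerLeft_zero

/-- Pascal's rule for free modules. -/
def pascal (C : Type u) [AddCommGroup C] [Module A C] (r j : ℕ) :
    ((Fin (r.choose (j + 1)) → C) × (Fin (r.choose j) → C)) ≃ₗ[A] (Fin ((r + 1).choose (j + 1)) → C) :=
  (LinearEquiv.sumArrowLequivProdArrow (Fin (r.choose (j + 1))) (Fin (r.choose j)) A C).symm ≪≫ₗ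
    LinearEquiv.funCongrLeft A C
      ((finCongr (show (r + 1).choose (j + 1) = r.choose (j + 1) + r.choose j by
        rw [Nat.choose_succ_succ', add_comm])).trans finSumFinEquiv.symm)

/-- Adding elements which kill the coefficients, for Koszul homology concentrated in degree zero. -/
theorem nonempty_H_append (M : ModuleCat.{u} A) (g : List A)
    (hz : ∀ i : ℤ, i ≠ 0 → IsZero (KoszChiLib.H g M i)) :
    ∀ ys : List A, (∀ y ∈ ys, ∀ m : M, y • m = 0) → ∀ i : ℕ,
      Nonempty (KoszChiLib.H (ys ++ g) M (-(i : ℤ)) ≃ₗ[A] (Fin (ys.length.choose i) → KoszChiLib.H g M 0))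
  | [], _, 0 => ⟨KoszScale.hcast g M (by simp) ≪≫ₗ (LinearEquiv.funUnique (Fin 1) A _).symm⟩
  | [], _, j + 1 => by
    haveI : IsEmpty (Fin ((List.length ([] : List A)).choose (j + 1))) := by
      rw [List.length_nil, Nat.choose_zero_succ]; infer_instance
    haveI : Subsingleton ↑(KoszChiLib.H ([] ++ g) M (-((j + 1 : ℕ) : ℤ))) :=
      ModuleCat.subsingleton_of_isZero (hz _ (by omega))
    exact ⟨LinearEquiv.ofSubsingleton _ _⟩
  | y :: ys, hy, i => by
    have hy' : ∀ z ∈ ys, ∀ m : M, z • m = 0 := fun z hz' => hy z (List.mem_cons_of_mem _ hz')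
    obtain ⟨h⟩ := nonempty_homotopy_kill (ys ++ g) M (hy y List.mem_cons_self)
    obtain ⟨e⟩ := homology_cons_iso_of_homotopy (ys ++ g) M h (-(i : ℤ))
    obtain ⟨e₁⟩ := nonempty_H_append M g hz ys hy' i
    rcases i with _ | j
    · haveI : Subsingleton ↑(KoszChiLib.H (ys ++ g) M (-((0 : ℕ) : ℤ) + 1)) :=
        KoszChiLib.H_eq_zero _ _ _ (Or.inl (by norm_num))
      haveI : Unique ↑(KoszChiLib.H (ys ++ g) M (-((0 : ℕ) : ℤ) + 1)) := uniqueOfSubsingleton 0
      exact ⟨e ≪≫ₗ LinearEquiv.prodUnique ≪≫ₗ e₁ ≪≫ₗ LinearEquiv.funCongrLeft A _ (finCongr (by simp))⟩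
    · obtain ⟨e₂⟩ := nonempty_H_append M g hz ys hy' j
      exact ⟨e ≪≫ₗ (e₁.prodCongr (KoszScale.hcast (ys ++ g) M (by push_cast; ring) ≪≫ₗ e₂)) ≪≫ₗ
        pascal _ ys.length j⟩

/-- A positive exterior power of a finite free module over a quotient ring. -/
theorem nonempty_exteriorPower (K : Ideal A) (r i : ℕ) :
    Nonempty (↥(⋀[A]^(i + 1) (Fin r → A ⧸ K)) ≃ₗ[A] (Fin (r.choose (i + 1)) → A ⧸ K)) := by
  classical
  rcases subsingleton_or_nontrivial (A ⧸ K) with hC | hC
  · haveI : Subsingleton ↥(⋀[A]^(i + 1) (Fin r → A ⧸ K)) := by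
      refine subsingleton_of_forall_eq 0 fun x => ?_
      have hx : x ∈ Submodule.span A (Set.range (exteriorPower.ιMulti A (i + 1) (M := Fin r → A ⧸ K))) := by
        rw [exteriorPower.ιMulti_span]; trivial
      refine (Submodule.span_le (p := (⊥ : Submodule A _))).2 ?_ hx
      rintro _ ⟨v, rfl⟩
      rw [Subsingleton.elim v 0]
      exact (exteriorPower.ιMulti A (i + 1) (M := Fin r → A ⧸ K)).map_coord_zero 0 rfl
    exact ⟨LinearEquiv.ofSubsingleton _ _⟩
  haveI : Nontrivial A := (Ideal.Quotient.mk K).domain_nontrivial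
  let N := Fin r → A ⧸ K
  let n := r.choose (i + 1)
  let E₀ : ↥(⋀[A ⧸ K]^(i + 1) N) ≃ₗ[A ⧸ K] (Fin n → A ⧸ K) :=
    (Module.finBasisOfFinrankEq (A ⧸ K) ↥(⋀[A ⧸ K]^(i + 1) N) (n := n)
      (by rw [exteriorPower.finrank_eq, Module.finrank_fin_fun])).equivFun
  let ψ₀ : ↥(⋀[A]^(i + 1) N) →ₗ[A] ↥(⋀[A ⧸ K]^(i + 1) N) :=
      exteriorPower.alternatingMapLinearEquiv
        { ((exteriorPower.ιMulti (A ⧸ K) (i + 1) (M := N)).toMultilinearMap.restrictScalars A) with
          map_eq_zero_of_eq' := fun v p q h hpq =>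
            (exteriorPower.ιMulti (A ⧸ K) (i + 1)).map_eq_zero_of_eq v h hpq }
  let ψ : ↥(⋀[A]^(i + 1) N) →ₗ[A] (Fin n → A ⧸ K) := (E₀.toLinearMap.restrictScalars A).comp ψ₀
  have hψ : Function.Surjective ψ := by
    suffices h : Function.Surjective ψ₀ from E₀.surjective.comp h
    intro x
    have hx : x ∈ Submodule.span (A ⧸ K) (Set.range (exteriorPower.ιMulti (A ⧸ K) (i + 1) (M := N))) := by
      rw [exteriorPower.ιMulti_span]; trivial
    induction hx using Submodule.span_induction with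
    | mem y hy =>
      obtain ⟨v, rfl⟩ := hy
      exact ⟨exteriorPower.ιMulti A (i + 1) v, exteriorPower.alternatingMapLinearEquiv_apply_ιMulti _ _⟩
    | zero => exact ⟨0, map_zero _⟩
    | add y y' _ _ hy hy' =>
      obtain ⟨a, rfl⟩ := hy
      obtain ⟨b, rfl⟩ := hy'
      exact ⟨a + b, map_add _ _ _⟩
    | smul c y _ hy =>
      obtain ⟨a, rfl⟩ := hy
      obtain ⟨c, rfl⟩ := Ideal.Quotient.mk_surjective c
      exact ⟨c • a, (map_smul _ _ _).trans (algebraMap_smul (A ⧸ K) c _).symm⟩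
  have hkill : ∀ a ∈ K, ∀ x : ↥(⋀[A]^(i + 1) N), a • x = 0 := by
    intro a ha x
    have hx : x ∈ Submodule.span A (Set.range (exteriorPower.ιMulti A (i + 1) (M := N))) := by
      rw [exteriorPower.ιMulti_span]; trivial
    induction hx using Submodule.span_induction with
    | mem y hy =>
      obtain ⟨v, rfl⟩ := hy
      have h0 : a • v 0 = 0 := funext fun t => by
        rw [Pi.smul_apply, Algebra.smul_def, Ideal.Quotient.algebraMap_eq, Ideal.Quotient.eq_zero_iff_mem.2 ha,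
          zero_mul]
        rfl
      have h1 := (exteriorPower.ιMulti A (i + 1) (M := N)).map_update_smul v 0 a (v 0)
      rw [Function.update_eq_self, h0] at h1
      rw [← h1, AlternatingMap.map_coord_zero _ 0 (Function.update_self _ _ _)]
    | zero => exact smul_zero _
    | add y y' _ _ hy hy' => rw [smul_add, hy, hy', add_zero]
    | smul c y _ hy => rw [smul_comm, hy, smul_zero]
  let p : (Fin r → A) →ₗ[A] N := (Submodule.mkQ K).compLeft (Fin r)
  let bA : Module.Basis (Fin n) A ↥(⋀[A]^(i + 1) (Fin r → A)) :=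
    Module.finBasisOfFinrankEq A _ (by rw [exteriorPower.finrank_eq, Module.finrank_fin_fun])
  let φ : (Fin n → A) →ₗ[A] ↥(⋀[A]^(i + 1) N) :=
    (exteriorPower.map (i + 1) p).comp bA.equivFun.symm.toLinearMap
  let ρ : (Fin n → A) →ₗ[A] (Fin n → A ⧸ K) := (Submodule.mkQ K).compLeft (Fin n)
  have hp : Function.Surjective p := fun v =>
    ⟨fun t => (Submodule.mkQ_surjective K (v t)).choose, funext fun t => (Submodule.mkQ_surjective K (v t)).choose_spec⟩
  have hρ : Function.Surjective ρ := fun v =>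
    ⟨fun t => (Submodule.mkQ_surjective K (v t)).choose, funext fun t => (Submodule.mkQ_surjective K (v t)).choose_spec⟩
  have hφ : Function.Surjective φ :=
    (exteriorPower.map_surjective hp).comp bA.equivFun.symm.surjective
  have hker : LinearMap.ker ρ ≤ LinearMap.ker φ := by
    intro v hv
    rw [LinearMap.mem_ker] at hv ⊢
    rw [pi_eq_sum_univ' v, map_sum]
    refine Finset.sum_eq_zero fun t _ => ?_
    rw [map_smul]
    exact hkill _ ((Submodule.Quotient.mk_eq_zero K).1 (congrFun hv t)) _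
  let θ : (Fin n → A ⧸ K) →ₗ[A] ↥(⋀[A]^(i + 1) N) :=
    ((LinearMap.ker ρ).liftQ φ hker).comp (ρ.quotKerEquivOfSurjective hρ).symm.toLinearMap
  have hθ : Function.Surjective θ := by
    intro x
    obtain ⟨v, rfl⟩ := hφ x
    refine ⟨ρ v, ?_⟩
    show (LinearMap.ker ρ).liftQ φ hker ((ρ.quotKerEquivOfSurjective hρ).symm (ρ v)) = φ v
    rw [show (ρ.quotKerEquivOfSurjective hρ).symm (ρ v) = Submodule.Quotient.mk v from
      (ρ.quotKerEquivOfSurjective hρ).symm_apply_eq.2 (LinearMap.quotKerEquivOfSurjective_apply_mk ρ hρ v).symm]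
    rfl
  have hinj : Function.Injective (ψ.comp θ) :=
    OrzechProperty.injective_of_surjective_endomorphism _ (hψ.comp hθ)
  exact ⟨(LinearEquiv.ofBijective θ ⟨Function.Injective.of_comp (f := ψ) hinj, hθ⟩).symm⟩

theorem main (f g h : List A) (hfg : LCI.IsKoszulRegularSeq A (f ++ g)) (hfh : LCI.IsKoszulRegularSeq A (f ++ h))
    (hfgh : LCI.IsKoszulRegularSeq A (f ++ g ++ h)) (i : ℕ) :
    Nonempty (DRing.Tor A i (A ⧸ KoszChiLib.Idl (f ++ g)) (A ⧸ KoszChiLib.Idl (f ++ h)) ≃ₗ[A]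
      (Fin (f.length.choose i) → A ⧸ KoszChiLib.Idl (g ++ (f ++ h)))) := by
  let M := ModuleCat.of A (A ⧸ KoszChiLib.Idl (f ++ h))
  have hreg : LCI.IsKoszulRegularSeq A (g ++ (f ++ h)) := by
    refine KoszPowLib.isKoszulRegularSeq_perm ?_ hfgh
    rw [← List.append_assoc]
    exact List.Perm.append_right h List.perm_append_comm
  have hz : ∀ j : ℤ, j ≠ 0 → IsZero (KoszChiLib.H g M j) := fun j hj => by
    obtain ⟨e⟩ := nonempty_H_quot hfh g j
    exact IsZero.of_iso (hreg j hj) e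
  obtain ⟨e⟩ := DiagTorLib.nonempty_tor_koszul (f ++ g) hfg (A ⧸ KoszChiLib.Idl (f ++ h)) i
  obtain ⟨e₁⟩ := nonempty_H_append M g hz f (by
    intro y hy m
    obtain ⟨a, rfl⟩ := Submodule.mkQ_surjective _ m
    exact (map_smul _ _ _).symm.trans ((Submodule.Quotient.mk_eq_zero _).2
      (Ideal.mul_mem_right _ _ (Ideal.subset_span (List.mem_append_left _ hy))))) i
  obtain ⟨e₂⟩ := nonempty_H_quot hfh g 0
  obtain ⟨e₃⟩ := KoszTorLib.nonempty_homology_zero (g ++ (f ++ h))
  exact ⟨e ≪≫ₗ e₁ ≪≫ₗ LinearEquiv.piCongrRight fun _ => (e₂ ≪≫ e₃).toLinearEquiv⟩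

theorem nonempty_tor_wedge (f g h : List A) (hfg : LCI.IsKoszulRegularSeq A (f ++ g))
    (hfh : LCI.IsKoszulRegularSeq A (f ++ h)) (hfgh : LCI.IsKoszulRegularSeq A (f ++ g ++ h)) (i : ℕ) :
    Nonempty (DRing.Tor A (i + 1) (A ⧸ KoszChiLib.Idl (f ++ g)) (A ⧸ KoszChiLib.Idl (f ++ h)) ≃ₗ[A]
      ↥(⋀[A]^(i + 1) (DRing.Tor A 1 (A ⧸ KoszChiLib.Idl (f ++ g)) (A ⧸ KoszChiLib.Idl (f ++ h))))) := by
  obtain ⟨e⟩ := main f g h hfg hfh hfgh (i + 1)
  obtain ⟨e₁⟩ := main f g h hfg hfh hfgh 1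
  obtain ⟨w⟩ := nonempty_exteriorPower (KoszChiLib.Idl (g ++ (f ++ h))) f.length i
  let E := e₁ ≪≫ₗ LinearEquiv.funCongrLeft A _ (finCongr (Nat.choose_one_right f.length).symm)
  exact ⟨e ≪≫ₗ w.symm ≪≫ₗ LinearEquiv.ofBijective (exteriorPower.map (i + 1) E.symm.toLinearMap)
    ⟨exteriorPower.map_injective (f := E.symm.toLinearMap) E.toLinearMap (by simp), exteriorPower.map_surjective (f := E.symm.toLinearMap) E.symm.surjective⟩⟩

end KoszExtPowLib
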